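/- Packed copy of the Chevalley table of type B2 (generated), for kernel evaluation. -/
import Cfsg.Agent.Lib.Chev.Packed

set_option autoImplicit false

namespace Cfsg.Agent.Chev.B2

def row0 : ℕ := 0x200000302200000501000000000000000000000000000000000000000000000
def row1 : ℕ := 0x400281b05000000000200000203400280502000000000200000600000000000000000000
def row2 : ℕ := 0x400182506200000204000000000000000000400180501000000000200000200000000000
def row3 : ℕ := 0x200000505000000000000000000000000000200000301000000000000000000
def row4 : ℕ := 0x200000506000000000000000000000000000200000302000000000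
def row5 : ℕ := 0x200000607000000000400183b06000000000000000000200000603400181b01
def row6 : ℕ := 0x200000207000000000400283b05200000604000000000400282502
def row7 : ℕ := 0x200000306200000505000000000
def rows (r : ℕ) : ℕ :=
  (bif Nat.blt r 4 then (bif Nat.blt r 2 then (bif Nat.blt r 1 then row0 else row1) else (bif Nat.blt r 3 then row2 else row3)) else (bif Nat.blt r 6 then (bif Nat.blt r 5 then row4 else row5) else (bif Nat.blt r 7 then row6 else row7)))
def cart0 : ℕ := 0x64626242
def cart1 : ℕ := 0x45362534
def cart (r : ℕ) : ℕ :=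
  (bif Nat.blt r 1 then cart0 else cart1)
def keys0 : List ℕ := [5, 6]
def keys1 : List ℕ := [2, 4, 5, 7]
def keys2 : List ℕ := [1, 3, 6, 7]
def keys3 : List ℕ := [2, 6]
def keys4 : List ℕ := [1, 5]
def keys5 : List ℕ := [0, 1, 4, 6]
def keys6 : List ℕ := [0, 2, 3, 5]
def keys7 : List ℕ := [1, 2]
def keys (r : ℕ) : List ℕ :=
  (bif Nat.blt r 4 then (bif Nat.blt r 2 then (bif Nat.blt r 1 then keys0 else keys1) else (bif Nat.blt r 3 then keys2 else keys3)) else (bif Nat.blt r 6 then (bif Nat.blt r 5 then keys4 else keys5) else (bif Nat.blt r 7 then keys6 else keys7)))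
def refl0 : ℕ := 0x406020700050103
def signs0 : ℕ := 0xff
def refl1 : ℕ := 0x705060304010200
def signs1 : ℕ := 0x5a
def refl (r : ℕ) : ℕ :=
  (bif Nat.blt r 1 then refl0 else refl1)
def signs (r : ℕ) : ℕ :=
  (bif Nat.blt r 1 then signs0 else signs1)
def coroots : ℕ := 0x99a9899878876777
def rootVecs : ℕ := 0x9a99899878877776
def simples : ℕ := 0x405

/-- Packed tables of type B2. -/
def pk : Pk where
  rank := 2
  nroots := 8
  rows := rows
  cart := cart
  coroots := coroots
  rootVecs := rootVecs
  simples := simples
  keys := keys
  refl := refl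
  signs := signs

def cdet : ℤ := 2
def cinv : List (List ℤ) := [[2, 2], [1, 2]]
def tops : List ℕ := [6, 7]
end Cfsg.Agent.Chev.B2
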