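/- Packed copy of the Chevalley table of type G2 (generated), for kernel evaluation. -/
import Cfsg.Agent.Lib.Chev.Packed

set_option autoImplicit false

namespace Cfsg.Agent.Chev.G2

def row0 : ℕ := 0x200000305200000303200000502000000000200000501000000000000000000000000000000000000000000000000000000
def row1 : ℕ := 0x200000306000000000200000304000000000200000502000000000200000500000000000000000000000000000000000000000000000
def row2 : ℕ := 0x6c0582308740281b07000000000400380e04400080203000000000000000000200000701200000700000000000000000000000000000
def row3 : ℕ := 0x6c1683d09000000000400082e07000000000200000105740181504000000000400380202000000000200000100000000000000000000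
def row4 : ℕ := 0x7419845094003832082000001060000000000000000006c0681503000000000400080e02200000101000000000000000000
def row5 : ℕ := 0x20000050a000000000000000000200000507000000000000000000000000000200000303000000000000000000200000300000000000
def row6 : ℕ := 0x20000050b000000000000000000200000508000000000000000000000000000200000304000000000000000000200000301
def row7 : ℕ := 0x20000070a400085209000000000742a84b08000000000000000000200000705400382e036c1581b02000000000
def row8 : ℕ := 0x20000070b000000000400385e090000000006c2d84b07200000706000000000400083204000000000741a82302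
def row9 : ℕ := 0x20000010b20000010a000000000000000000400085e084003852070000000006c2e84504742983d03
def row10 : ℕ := 0x20000030b000000000200000309000000000200000507000000000200000505
def row11 : ℕ := 0x20000030a000000000200000309200000508200000506000000000
def rows (r : ℕ) : ℕ :=
  (bif Nat.blt r 6 then (bif Nat.blt r 3 then (bif Nat.blt r 1 then row0 else (bif Nat.blt r 2 then row1 else row2)) else (bif Nat.blt r 4 then row3 else (bif Nat.blt r 5 then row4 else row5))) else (bif Nat.blt r 9 then (bif Nat.blt r 7 then row6 else (bif Nat.blt r 8 then row7 else row8)) else (bif Nat.blt r 10 then row9 else (bif Nat.blt r 11 then row10 else row11))))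
def cart0 : ℕ := 0x475361725314
def cart1 : ℕ := 0x534536253453
def cart (r : ℕ) : ℕ :=
  (bif Nat.blt r 1 then cart0 else cart1)
def keys0 : List ℕ := [6, 8, 9, 10]
def keys1 : List ℕ := [5, 7, 9, 11]
def keys2 : List ℕ := [3, 4, 7, 8, 10, 11]
def keys3 : List ℕ := [2, 4, 6, 7, 9, 11]
def keys4 : List ℕ := [2, 3, 5, 8, 9, 10]
def keys5 : List ℕ := [1, 4, 8, 11]
def keys6 : List ℕ := [0, 3, 7, 10]
def keys7 : List ℕ := [1, 2, 3, 6, 8, 9]
def keys8 : List ℕ := [0, 2, 4, 5, 7, 9]
def keys9 : List ℕ := [0, 1, 3, 4, 7, 8]
def keys10 : List ℕ := [0, 2, 4, 6]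
def keys11 : List ℕ := [1, 2, 3, 5]
def keys (r : ℕ) : List ℕ :=
  (bif Nat.blt r 6 then (bif Nat.blt r 3 then (bif Nat.blt r 1 then keys0 else (bif Nat.blt r 2 then keys1 else keys2)) else (bif Nat.blt r 4 then keys3 else (bif Nat.blt r 5 then keys4 else keys5))) else (bif Nat.blt r 9 then (bif Nat.blt r 7 then keys6 else (bif Nat.blt r 8 then keys7 else keys8)) else (bif Nat.blt r 10 then keys9 else (bif Nat.blt r 11 then keys10 else keys11))))
def refl0 : ℕ := 0xb060809040a010702030500
def signs0 : ℕ := 0x696
def refl1 : ℕ := 0xa0b09070805060304020001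
def signs1 : ℕ := 0x969
def refl (r : ℕ) : ℕ :=
  (bif Nat.blt r 1 then refl0 else refl1)
def signs (r : ℕ) : ℕ :=
  (bif Nat.blt r 1 then signs0 else signs1)
def coroots : ℕ := 0xa999bab98998788757567767
def rootVecs : ℕ := 0xab9b9a998998788777767565
def simples : ℕ := 0x607

/-- Packed tables of type G2. -/
def pk : Pk where
  rank := 2
  nroots := 12
  rows := rows
  cart := cart
  coroots := coroots
  rootVecs := rootVecs
  simples := simples
  keys := keys
  refl := refl
  signs := signs

def cdet : ℤ := 1
def cinv : List (List ℤ) := [[2, 3], [1, 2]]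
def tops : List ℕ := [9, 11]
end Cfsg.Agent.Chev.G2
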